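import Cfsg.Agent.H684.OQ.Infl
import Cfsg.Agent.H641.Gow.Real
import Cfsg.Agent.KFacts.RgdVJ
import Cfsg.Agent.H595.Central
import Cfsg.Agent.OddOrderCharacters.IndRes

/-!
# S4884, own odd characteristic: linear characters of `B` (helper381)

`mB R μ χ = ⟨χ|_B, infl μ⟩`. If `mB R μ χ ≠ 0 ≠ mB R ν χ` for an irreducible character `χ` then `μ`, `ν` are conjugate
under `N` and `mB R μ χ = mB R ν χ`.
-/

set_option autoImplicit false
set_option linter.unusedSectionVars false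

open scoped ComplexConjugate
open Cfsg

namespace Cfsg.Agent.H381.OQ

open CoxeterSystem Cfsg.Agent.ChevalleyStructure.CoxeterGeom Cfsg.Agent.Tits.Roots Cfsg.Agent.Nodes.Reps
  Cfsg.Agent.Nodes.BNOf Cfsg.Agent.Nodes.Bruhat Cfsg.Agent.Nodes.OppDec Cfsg.Agent.Nodes.LeviDec
  Cfsg.Agent.Nodes.StabComb Cfsg.Agent.Characters Cfsg.Agent.H53.HC Cfsg.Agent.H641.Gow Cfsg.Agent.H684.OQ

universe u

variable {I W : Type*} {Y : Type u} [Fintype I] [DecidableEq I] [Group W] [Finite W] [Group Y]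
  {M : CoxeterMatrix I} {cs : CoxeterSystem M W} {A : I → I → ℤ} {h : IsCartan M A} {p : ℕ} {T : Subgroup Y}
  {n : I → Y} {X : (I → ℤ) → Subgroup Y}

theorem LJ_empty : LJ cs h T X ∅ = T := by
  refine le_antisymm (sup_le le_rfl (RGD.Sup_le fun x hx => ?_)) T_le_LJ
  exact absurd (funext fun k => hx.2 k (Set.notMem_empty k)) hx.1.ne_zero

theorem perm_empty (w : W) : Perm cs h ∅ w :=
  ⟨fun _ hi => absurd hi (Set.notMem_empty _), fun _ hi => absurd hi (Set.notMem_empty _)⟩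

/-- `L_∅ = T` -/
def iL (cs : CoxeterSystem M W) (h : IsCartan M A) (T : Subgroup Y) (X : (I → ℤ) → Subgroup Y) :
    ↥(LJ cs h T X ∅) →* ↥T := Subgroup.inclusion (le_of_eq LJ_empty)

/-- the linear character of `L_∅ = T` -/
def chT (cs : CoxeterSystem M W) (h : IsCartan M A) (X : (I → ℤ) → Subgroup Y) (μ : ↥T →* ℂˣ) :
    ↥(LJ cs h T X ∅) → ℂ := fun l => ((μ (iL cs h T X l) : ℂˣ) : ℂ)

theorem isIrr_chT (μ : ↥T →* ℂˣ) : IsIrrCharacter _ (chT cs h X μ) :=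
  H595.Central.isIrr_hom (μ.comp (iL cs h T X))

theorem cusp_chT (α : ↥(LJ cs h T X ∅) → ℂ) : CuspL cs h T X ∅ α := fun i hi => absurd hi (Set.notMem_empty i)

/-- conjugate linear characters -/
def Cj (T : Subgroup Y) (μ ν : ↥T →* ℂˣ) (g : Y) : Prop :=
  ∀ t (ht : t ∈ T) (ht' : g⁻¹ * t * g ∈ T), μ ⟨t, ht⟩ = ν ⟨g⁻¹ * t * g, ht'⟩

theorem tw_chT_iff {μ ν : ↥T →* ℂˣ} {g : Y} : Tw cs h T X ∅ (chT cs h X μ) (chT cs h X ν) g ↔ Cj T μ ν g := by
  constructor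
  · intro H t ht ht'
    exact Units.ext (H t (T_le_LJ ht) (T_le_LJ ht'))
  · intro H l hl hl'
    have hl2 : l ∈ T := le_of_eq (LJ_empty (cs := cs) (h := h) (X := X)) hl
    have hl3 : g⁻¹ * l * g ∈ T := le_of_eq (LJ_empty (cs := cs) (h := h) (X := X)) hl'
    exact congrArg Units.val (H l hl2 hl3)

variable (R : RGD cs h p T n X)

include R

/-- `⟨χ|_B, infl μ⟩` -/
noncomputable def mB (μ : ↥T →* ℂˣ) (χ : Y → ℂ) : ℂ :=
  (Nat.card ↥(RGD.B cs h T X) : ℂ)⁻¹ * ∑ᶠ b : ↥(RGD.B cs h T X), (((infl R μ b)⁻¹ : ℂˣ) : ℂ) * χ b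

theorem projL_eq {g : Y} (hg : g ∈ PJ cs h T X ∅) (hg' : g ∈ RGD.B cs h T X) :
    iL cs h T X (projL R ∅ ⟨g, hg⟩) = projT R ⟨g, hg'⟩ := by
  obtain ⟨t, ht, u, hu, e⟩ := R.mem_B.1 hg'
  subst e
  have hV : u ∈ VJ cs h X ∅ := by
    unfold VJ
    refine (RGD.Sup_mono (S := RGD.Pos cs h) (S' := NotJ cs h ∅) fun x hx => ?_) hu
    rcases mem_PosJ_or_NotJ (cs := cs) (h := h) ∅ hx.1 hx.2 with h1 | h1
    · exact absurd (funext fun k => (PosJ_subset ∅ h1).2 k (Set.notMem_empty k)) hx.1.ne_zero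
    · exact h1
  have e1 : (⟨t * u, hg⟩ : ↥(PJ cs h T X ∅)) = ⟨t, LJ_le_PJ (T_le_LJ ht)⟩ * ⟨u, VJ_le_PJ hV⟩ := rfl
  have e2 : (⟨t * u, hg'⟩ : ↥(RGD.B cs h T X)) = ⟨t, RGD.T_le_B ht⟩ * ⟨u, RGD.U_le_B hu⟩ := rfl
  rw [e1, e2, map_mul, map_mul, map_mul, projL_L R (T_le_LJ ht), projL_V R hV, projT_T R ht, projT_U R hu, map_one]
  rfl

theorem mB_eq [Fintype Y] (μ : ↥T →* ℂˣ) {χ : Y → ℂ} (hχ : IsClassFunction Y χ) :
    mB R μ χ = classInner χ (HC R ∅ (chT cs h X μ)) := by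
  classical
  have : Fintype ↥(PJ cs h T X ∅) := Fintype.ofFinite _
  have : Fintype ↥(RGD.B cs h T X) := Fintype.ofFinite _
  have hPB : PJ cs h T X ∅ = RGD.B cs h T X := KFacts.RgdVJ.PJ_empty R
  rw [HC, OddOrderCharacters.IndRes.classInner_indFun_right _ _ hχ, Core.classInner_def, mB,
    finsum_eq_sum_of_fintype, Nat.card_congr (MulEquiv.subgroupCongr hPB.symm).toEquiv]
  congr 1
  refine Fintype.sum_equiv (MulEquiv.subgroupCongr hPB.symm).toEquiv _ _ fun b => ?_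
  have e1 : ((MulEquiv.subgroupCongr hPB.symm).toEquiv b : Y) = b := rfl
  have e2 : (chT cs h X μ ∘ projL R ∅) ((MulEquiv.subgroupCongr hPB.symm).toEquiv b) = ((infl R μ b : ℂˣ) : ℂ) := by
    have e3 := projL_eq R (g := (b : Y)) (by rw [hPB]; exact b.2) b.2
    exact congrArg (fun t => ((μ t : ℂˣ) : ℂ)) e3
  rw [e2, mul_comm]
  congr 1
  rw [Units.val_inv_eq_inv_val, Complex.inv_def]
  have h3 : Complex.normSq ((infl R μ b : ℂˣ) : ℂ) = 1 := by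
    have h4 : (infl R μ b) ^ Nat.card ↥(RGD.B cs h T X) = 1 := by
      rw [← map_pow, pow_card_eq_one', map_one]
    have h5 : (((infl R μ b : ℂˣ) : ℂ)) ^ Nat.card ↥(RGD.B cs h T X) = 1 := by
      rw [← Units.val_pow_eq_pow_val, h4, Units.val_one]
    have h6 := Complex.norm_eq_one_of_pow_eq_one h5 Nat.card_pos.ne'
    rw [Complex.normSq_eq_norm_sq, h6, one_pow]
  rw [h3, inv_one, Complex.ofReal_one, mul_one]

/-- **the linear constituents of `χ|_B` are conjugate and have the same multiplicity** -/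
theorem mB_conj [Finite Y] (hG : GG cs h T X = ⊤) {χ : Y → ℂ} (hχ : IsIrrCharacter Y χ) {μ ν : ↥T →* ℂˣ}
    (h1 : mB R μ χ ≠ 0) (h2 : mB R ν χ ≠ 0) : ∃ g ∈ NN cs R.nsys, Cj T μ ν g := by
  classical
  have : Fintype Y := Fintype.ofFinite Y
  have : Finite (IrrCharacter Y) := Core.finite_irr
  have : Fintype (IrrCharacter Y) := Fintype.ofFinite _
  by_contra hcon
  push Not at hcon
  have h3 := classInner_HC R hG ∅ (isIrr_chT (cs := cs) (h := h) (X := X) μ) (isIrr_chT (cs := cs) (h := h) (X := X) ν)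
    (cusp_chT _)
  have h4 : SS R ∅ (chT cs h X μ) (chT cs h X ν) = ∅ := by
    rw [Set.eq_empty_iff_forall_notMem]
    rintro w ⟨-, g, hg, ht⟩
    exact hcon g (mem_NN.2 ⟨w, hg⟩) (tw_chT_iff.1 ht)
  rw [h4, Set.ncard_empty, Nat.cast_zero] at h3
  have hc : ∀ μ : ↥T →* ℂˣ, IsCharacter Y (HC R ∅ (chT cs h X μ)) := fun μ =>
    OddOrderCharacters.IndRes.isCharacter_indFun _
      (Core.isCharacter_comp _ (Core.isIrr_isCharacter (isIrr_chT (cs := cs) (h := h) (X := X) μ)))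
  have hcl : ∀ μ : ↥T →* ℂˣ, IsClassFunction Y (HC R ∅ (chT cs h X μ)) := fun μ =>
    Core.isCharacter_isClassFunction (hc μ)
  rw [Core.classInner_eq_sum (hcl μ) (hcl ν)] at h3
  have h5 : ∀ (μ : ↥T →* ℂˣ) (ψ : IrrCharacter Y), ∃ k : ℕ, classInner (HC R ∅ (chT cs h X μ)) (ψ : Y → ℂ) = k :=
    fun μ ψ => Core.classInner_isNat (hc μ) (Core.isIrr_isCharacter ψ.2)
  choose k hk using h5
  simp only [hk, Complex.conj_natCast] at h3
  have h6 : ∑ ψ : IrrCharacter Y, k μ ψ * k ν ψ = 0 := by exact_mod_cast h3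
  have h7 := (Finset.sum_eq_zero_iff_of_nonneg fun _ _ => Nat.zero_le _).1 h6 ⟨χ, hχ⟩ (Finset.mem_univ _)
  have hcl' := Core.isIrr_isClassFunction hχ
  rcases Nat.mul_eq_zero.1 h7 with h8 | h8
  · apply h1
    rw [mB_eq R μ hcl', ← Core.classInner_conj_symm, show χ = ((⟨χ, hχ⟩ : IrrCharacter Y) : Y → ℂ) from rfl, hk, h8]
    simp
  · apply h2
    rw [mB_eq R ν hcl', ← Core.classInner_conj_symm, show χ = ((⟨χ, hχ⟩ : IrrCharacter Y) : Y → ℂ) from rfl, hk, h8]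
    simp

theorem mB_congr [Finite Y] (hG : GG cs h T X = ⊤) {χ : Y → ℂ} (hχ : IsClassFunction Y χ) {μ ν : ↥T →* ℂˣ} {g : Y}
    (hg : g ∈ NN cs R.nsys) (hc : Cj T μ ν g) : mB R μ χ = mB R ν χ := by
  have : Fintype Y := Fintype.ofFinite Y
  obtain ⟨w, hw⟩ := mem_NN.1 hg
  rw [mB_eq R μ hχ, mB_eq R ν hχ, HC_eq_of_tw R hG (isIrr_chT μ) (isIrr_chT ν) (cusp_chT _) (cusp_chT _)
    (perm_empty w) hw (tw_chT_iff.2 hc)]

end Cfsg.Agent.H381.OQ
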