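import Cfsg.Agent.H684.OQ.Defs

/-!
# S4884, own odd characteristic: faithful action on the 2-elements of the torus (helper381)

* `eq_one_of_even` : an element of odd order of `GL_n(ℤ)` congruent to `1` modulo `2` is trivial;
* `eq_one_of_pairing` : `w ∈ W` of odd order which respects the parities of all `⟨α, α_j^∨⟩` is trivial;
* `twFaithful_of`, `twFaithful_of_sq` : `TWFaithful`.
-/

set_option autoImplicit false

namespace Cfsg.Agent.H381.OQ

open CoxeterSystem Cfsg.Agent.ChevalleyStructure.CoxeterGeom Cfsg.Agent.Tits.Roots Cfsg.Agent.Nodes.Reps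
  Cfsg.Agent.Nodes.BNOf Cfsg.Agent.Nodes.Bruhat Cfsg.Agent.H684.OQ

/-! ### integral vectors -/

section lat

variable {I : Type*}

/-- the vectors divisible by `2 ^ k` -/
def EE (I : Type*) (k : ℕ) : Submodule ℤ (I → ℤ) where
  carrier := {v | ∀ i, (2 : ℤ) ^ k ∣ v i}
  add_mem' := fun h1 h2 i => dvd_add (h1 i) (h2 i)
  zero_mem' := fun _ => dvd_zero _
  smul_mem' := fun c _ h i => Dvd.dvd.mul_left (h i) c

theorem mem_EE {k : ℕ} {v : I → ℤ} : v ∈ EE I k ↔ ∀ i, (2 : ℤ) ^ k ∣ v i := Iff.rfl

theorem exists_of_mem {k : ℕ} {v : I → ℤ} (h : v ∈ EE I k) : ∃ z : I → ℤ, v = (2 : ℤ) ^ k • z := by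
  choose z hz using h
  exact ⟨z, funext hz⟩

theorem smul_mem_EE {k l : ℕ} {z : I → ℤ} (h : z ∈ EE I l) : (2 : ℤ) ^ k • z ∈ EE I (k + l) := by
  intro i
  rw [Pi.smul_apply, smul_eq_mul, pow_add]
  exact mul_dvd_mul_left _ (h i)

theorem map_mem_EE (f : Module.End ℤ (I → ℤ)) {k : ℕ} {v : I → ℤ} (h : v ∈ EE I k) : f v ∈ EE I k := by
  obtain ⟨z, rfl⟩ := exists_of_mem h
  rw [map_smul]
  intro i
  rw [Pi.smul_apply, smul_eq_mul]
  exact dvd_mul_right _ _

theorem pow_sub_mem {f : Module.End ℤ (I → ℤ)} {k : ℕ} (h1 : ∀ v, f v - v ∈ EE I k) (t : ℕ) (v : I → ℤ) :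
    (f ^ t) v - v ∈ EE I k := by
  induction t generalizing v with
  | zero => rw [pow_zero, Module.End.one_apply, sub_self]; exact zero_mem _
  | succ t ih =>
    rw [pow_succ, Module.End.mul_apply]
    have e : (f ^ t) (f v) - v = ((f ^ t) (f v) - f v) + (f v - v) := by abel
    rw [e]
    exact add_mem (ih _) (h1 _)

/-- an element of odd order congruent to `1` modulo `2` is trivial -/
theorem eq_one_of_even {f : Module.End ℤ (I → ℤ)} {N : ℕ} (hN : Odd N) (hf : f ^ N = 1)
    (h1 : ∀ v, f v - v ∈ EE I 1) : f = 1 := by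
  have key : ∀ k, ∀ v, f v - v ∈ EE I (k + 1) := by
    intro k
    induction k with
    | zero => exact h1
    | succ k ih =>
      intro v
      obtain ⟨z, hz⟩ := exists_of_mem (ih v)
      have hs : ∀ s : ℕ, (f ^ s) v - v - (s : ℤ) • (f v - v) ∈ EE I (k + 1 + 1) := by
        intro s
        induction s with
        | zero => simp
        | succ s ihs =>
          have e : (f ^ (s + 1)) v - v - ((s + 1 : ℕ) : ℤ) • (f v - v) =
              ((f ^ s) (f v - v) - (f v - v)) + ((f ^ s) v - v - (s : ℤ) • (f v - v)) := by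
            rw [pow_succ, Module.End.mul_apply, map_sub]
            push_cast
            rw [add_smul, one_smul]
            abel
          rw [e]
          refine add_mem ?_ ihs
          rw [hz, map_smul, ← smul_sub]
          exact smul_mem_EE (pow_sub_mem h1 s z)
      have h2 := hs N
      rw [hf, Module.End.one_apply, sub_self, zero_sub] at h2
      have h3 := neg_mem h2
      rw [neg_neg] at h3
      intro i
      have h4 := h3 i
      rw [Pi.smul_apply, smul_eq_mul] at h4
      refine IsCoprime.dvd_of_dvd_mul_left ?_ h4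
      refine IsCoprime.pow_left ?_
      rw [Int.isCoprime_iff_gcd_eq_one]
      have h5 : Int.gcd 2 (N : ℤ) = Nat.gcd 2 N := rfl
      rw [h5]
      exact Nat.coprime_two_left.2 hN
  ext v i
  have h2 : ∀ x : ℤ, (∀ k : ℕ, (2 : ℤ) ^ (k + 1) ∣ x) → x = 0 := by
    intro x hx
    have h3 := hx x.natAbs
    by_contra hne
    have h4 := Int.natAbs_dvd_natAbs.2 h3
    have h5 := Nat.le_of_dvd (Int.natAbs_pos.2 hne) h4
    rw [Int.natAbs_pow] at h5
    have h6 : x.natAbs < 2 ^ x.natAbs := Nat.lt_two_pow_self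
    have h7 : (2 : ℕ) ^ x.natAbs ≤ 2 ^ (x.natAbs + 1) := Nat.pow_le_pow_right (by norm_num) (by omega)
    have h8 : (Int.natAbs 2) = 2 := rfl
    rw [h8] at h5
    omega
  have h3 := h2 ((f v - v) i) fun k => key k v i
  rw [Pi.sub_apply, sub_eq_zero] at h3
  exact h3

end lat

/-! ### the Weyl group -/

section weyl

variable {I W : Type*} [Fintype I] [DecidableEq I] [Group W] {M : CoxeterMatrix I}
  (cs : CoxeterSystem M W) {A : I → I → ℤ} (h : IsCartan M A)

omit [DecidableEq I] in
theorem even_pairing_of_mem {v : I → ℤ} (hv : v ∈ EE I 1) (j : I) : Even (pairing A j v) := by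
  obtain ⟨z, rfl⟩ := exists_of_mem hv
  rw [pairing_smul, pow_one]
  exact even_two_mul _

/-- on the radical of the pairing modulo `2` the group `W` acts trivially modulo `2` -/
theorem rep_sub_mem {y : I → ℤ} (hy : ∀ j, Even (pairing A j y)) (u : W) :
    rep cs h u y - y ∈ EE I 1 := by
  obtain ⟨ω, rfl⟩ := cs.wordProd_surjective u
  induction ω with
  | nil => rw [wordProd_nil, map_one, Module.End.one_apply, sub_self]; exact zero_mem _
  | cons i ω ih =>
    rw [wordProd_cons, rep_mul_apply, rep_simple, refl_apply]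
    set z := rep cs h (cs.wordProd ω) y with hz
    have h1 : Even (pairing A i z) := by
      have e : z = (z - y) + y := by abel
      rw [e, pairing_add]
      exact (even_pairing_of_mem ih i).add (hy i)
    have e : z - Pi.single i (pairing A i z) - y = (z - y) - Pi.single i (pairing A i z) := by abel
    rw [e]
    refine sub_mem ih ?_
    intro k
    rw [pow_one, ← even_iff_two_dvd]
    by_cases hk : k = i
    · subst hk; rw [Pi.single_eq_same]; exact h1
    · rw [Pi.single_eq_of_ne hk]; exact Even.zero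

/-- **`w` of odd order respecting the parities of the pairings is trivial** -/
theorem eq_one_of_pairing {w : W} (hw : Odd (orderOf w))
    (hp : ∀ j, ∀ x, IsRoot cs h x → (Even (pairing A j (rep cs h w x)) ↔ Even (pairing A j x))) : w = 1 := by
  -- for all vectors
  have h1 : ∀ j, ∀ v : I → ℤ, Even (pairing A j (rep cs h w v - v)) := by
    intro j v
    have hv : v = ∑ i, v i • (sr i : I → ℤ) := by
      funext k
      rw [Finset.sum_apply, Finset.sum_eq_single k]
      · rw [Pi.smul_apply, sr_self, smul_eq_mul, mul_one]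
      · intro b _ hb
        rw [Pi.smul_apply, sr_ne hb.symm, smul_zero]
      · intro hk; exact absurd (Finset.mem_univ k) hk
    let L : (I → ℤ) →+ ℤ := ⟨⟨pairing A j, by simp [pairing]⟩, pairing_add A j⟩
    have hL : ∀ x, L x = pairing A j x := fun _ => rfl
    have h2 : rep cs h w v - v = ∑ i, v i • (rep cs h w (sr i) - sr i) := by
      conv_lhs => rw [hv]
      rw [map_sum, ← Finset.sum_sub_distrib]
      refine Finset.sum_congr rfl fun i _ => ?_
      rw [map_smul, smul_sub]
    rw [h2, ← hL, map_sum]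
    refine Finset.even_sum _ fun i _ => ?_
    rw [hL, pairing_smul]
    refine Even.mul_left ?_ _
    have h3 := hp j (sr i) (isRoot_sr cs h i)
    rw [← hL, map_sub, Int.even_sub, hL, hL]
    exact h3
  -- `w ^ 2 = 1` modulo `2`
  have h2 : ∀ v : I → ℤ, rep cs h (w ^ 2) v - v ∈ EE I 1 := by
    intro v
    set y := rep cs h w v - v with hy
    have h3 := rep_sub_mem cs h (y := y) (fun j => h1 j v) w
    have e : rep cs h (w ^ 2) v - v = (rep cs h w y - y) + (2 : ℤ) ^ 1 • y := by
      rw [pow_two, rep_mul_apply, hy, map_sub, pow_one, two_smul]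
      abel
    rw [e]
    refine add_mem h3 ?_
    intro i
    rw [Pi.smul_apply, smul_eq_mul]
    exact dvd_mul_right _ _
  obtain ⟨m, hm⟩ := hw
  have h3 : ∀ v : I → ℤ, rep cs h w v - v ∈ EE I 1 := by
    intro v
    have e : w = (w ^ 2) ^ (m + 1) := by
      rw [← pow_mul, show 2 * (m + 1) = (2 * m + 1) + 1 by ring, ← hm, pow_succ, pow_orderOf_eq_one, one_mul]
    rw [e, map_pow]
    exact pow_sub_mem (f := rep cs h (w ^ 2)) h2 (m + 1) v
  have h4 : rep cs h w = 1 := by
    refine eq_one_of_even (N := orderOf w) ⟨m, hm⟩ ?_ h3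
    rw [← map_pow, pow_orderOf_eq_one, map_one]
  exact rep_injective cs h (h4.trans (map_one _).symm)

end weyl

universe u

variable {I W : Type*} {Y : Type u} [Fintype I] [DecidableEq I] [Group W] [Group Y] {M : CoxeterMatrix I}
  {cs : CoxeterSystem M W} {A : I → I → ℤ} {h : IsCartan M A} {p : ℕ} {T : Subgroup Y} {n : I → Y}
  {X : (I → ℤ) → Subgroup Y}

/-- **`TWFaithful`** from `2`-elements `t j` of `T` which centralise `X x` if and only if `⟨x, α_j^∨⟩` is even -/
theorem twFaithful_of (R : RGD cs h p T n X) (t : I → Y) (htT : ∀ j, t j ∈ T) (ht2 : ∀ j, ∃ k : ℕ, t j ^ 2 ^ k = 1)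
    (htc : ∀ j x, IsRoot cs h x → ((∀ y ∈ X x, t j * y = y * t j) ↔ Even (pairing A j x))) :
    TWFaithful cs T n R.nsys := by
  intro w g hg hodd hc
  refine eq_one_of_pairing cs h hodd ?_
  intro j x hx
  rw [← htc j _ (hx.act w), ← htc j x hx, ← R.conj_rp hg hx]
  have hgt : g * t j = t j * g := hc (t j) (htT j) (ht2 j)
  constructor
  · intro h1 y hy
    have h2 := h1 (g * y * g⁻¹) ⟨y, hy, rfl⟩
    have e1 : t j * (g * y * g⁻¹) = g * (t j * y) * g⁻¹ := by
      calc t j * (g * y * g⁻¹) = (t j * g) * y * g⁻¹ := by group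
        _ = (g * t j) * y * g⁻¹ := by rw [hgt]
        _ = g * (t j * y) * g⁻¹ := by group
    have e2 : g * y * g⁻¹ * t j = g * (y * t j) * g⁻¹ := by
      have h3 : g⁻¹ * t j = t j * g⁻¹ := by
        calc g⁻¹ * t j = g⁻¹ * (t j * g) * g⁻¹ := by group
          _ = g⁻¹ * (g * t j) * g⁻¹ := by rw [hgt]
          _ = t j * g⁻¹ := by group
      calc g * y * g⁻¹ * t j = g * y * (g⁻¹ * t j) := by group
        _ = g * y * (t j * g⁻¹) := by rw [h3]
        _ = g * (y * t j) * g⁻¹ := by group
    rw [e1, e2] at h2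
    exact mul_left_cancel (mul_right_cancel h2)
  · rintro h1 _ ⟨y, hy, rfl⟩
    show t j * (g * y * g⁻¹) = g * y * g⁻¹ * t j
    have h3 : g⁻¹ * t j = t j * g⁻¹ := by
      calc g⁻¹ * t j = g⁻¹ * (t j * g) * g⁻¹ := by group
        _ = g⁻¹ * (g * t j) * g⁻¹ := by rw [hgt]
        _ = t j * g⁻¹ := by group
    calc t j * (g * y * g⁻¹) = (t j * g) * y * g⁻¹ := by group
      _ = (g * t j) * y * g⁻¹ := by rw [hgt]
      _ = g * (t j * y) * g⁻¹ := by group
      _ = g * (y * t j) * g⁻¹ := by rw [h1 y hy]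
      _ = g * y * (t j * g⁻¹) := by group
      _ = g * y * (g⁻¹ * t j) := by rw [h3]
      _ = g * y * g⁻¹ * t j := by group

/-- **`TWFaithful`** from the squares `n j ^ 2` -/
theorem twFaithful_of_sq (R : RGD cs h p T n X) (ht2 : ∀ j, ∃ k : ℕ, (n j ^ 2) ^ 2 ^ k = 1)
    (htc : ∀ j x, IsRoot cs h x → ((∀ y ∈ X x, n j ^ 2 * y = y * n j ^ 2) ↔ Even (pairing A j x))) :
    TWFaithful cs T n R.nsys := by
  refine twFaithful_of R (fun j => n j ^ 2) (fun j => ?_) ht2 htc
  have h1 := R.nsys.rel j j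
  rw [M.diagonal, pow_one, ← pow_two] at h1
  exact h1

end Cfsg.Agent.H381.OQ
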